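import Cfsg.Agent.Lib.Char.NineKlein.Setup

/-!
# Class functions induced from the self-centralizing subgroup
-/

set_option autoImplicit false
set_option linter.unusedSectionVars false

namespace CfsgLib.Char.NineKlein

open scoped ComplexConjugate
open Cfsg CfsgLib.Char CfsgLib.Char.Signed CfsgLib.Char.NineTI

universe u

/-- Zero at zero, three elsewhere. -/
def iv (k : ZMod 3) : ℤ := if k = 0 then 0 else 3
/-- The first norm three function. -/
def fx (v : V9) : ℤ := -2 * iv v.2 + iv (v.1 + v.2) + iv (v.1 - v.2)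
/-- The second norm three function. -/
def fy (v : V9) : ℤ := -2 * iv v.1 + iv (v.1 + v.2) + iv (v.1 - v.2)
/-- The function supported off the axes. -/
def fz (v : V9) : ℤ := 2 * iv v.1 + 2 * iv v.2 - iv (v.1 + v.2) - iv (v.1 - v.2)

/-- The orbit of an axial vector. -/
def Oa (va w : V9) : Bool := decide (∃ j, sgn4 j va = w)

/-- The number of ways of writing a vector as a diagonal plus an axial one. -/
def cnt (va v : V9) : ℤ := ((Finset.univ.filter fun w => (Od w && Oa va (v - w)) = true).card : ℕ)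

theorem inv_fns : ∀ j v, fx (sgn4 j v) = fx v ∧ fy (sgn4 j v) = fy v ∧ fz (sgn4 j v) = fz v := by decide
theorem vals_fns : fx 0 = 0 ∧ fy 0 = 0 ∧ fz 0 = 0 ∧ fx (1, 0) = 6 ∧ fx (0, 1) = 0 ∧ fx (1, 1) = -3 ∧
    fy (1, 0) = 0 ∧ fy (0, 1) = 6 ∧ fy (1, 1) = -3 ∧ fz (1, 0) = 0 ∧ fz (0, 1) = 0 ∧ fz (1, 1) = 9 := by
  decide

variable {G : Type u} [Group G] [Fintype G] {T : Subgroup G}

namespace KHyp

/-- The induced function attached to an invariant integral function. -/
noncomputable def R (K : KHyp T) (f : V9 → ℤ) : G → ℂ :=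
  (4 : ℂ)⁻¹ • indFun T (fun t => (f (K.equiv.symm t) : ℂ))

theorem equiv_el (K : KHyp T) (v : V9) : K.equiv.symm ⟨K.el v, K.mem v⟩ = v :=
  K.equiv.symm_apply_eq.2 rfl

theorem R_class (K : KHyp T) (f : V9 → ℤ) : IsClassFunction G (K.R f) := fun g k => by
  rw [R, Pi.smul_apply, Pi.smul_apply, isClassFunction_indFun T _ g k]

theorem R_one (K : KHyp T) {f : V9 → ℤ} (h0 : f 0 = 0) : K.R f 1 = 0 := by
  rw [R, Pi.smul_apply, indFun_one, show (1 : T) = ⟨K.el 0, K.mem 0⟩ from Subtype.ext K.el_zero.symm,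
    K.equiv_el, h0]
  simp

theorem R_el (K : KHyp T) {f : V9 → ℤ} (hinv : ∀ j v, f (sgn4 j v) = f v) {v : V9} (hv : v ≠ 0) :
    K.R f (K.el v) = f v := by
  classical
  have key : ∀ y : G, extendByZero T (fun t => (f (K.equiv.symm t) : ℂ)) (y⁻¹ * K.el v * y) =
      if y ∈ Subgroup.normalizer (T : Set G) then (f v : ℂ) else 0 := by
    intro y
    split_ifs with hy
    · obtain ⟨j, hj⟩ := K.cover y hy
      have hm : y⁻¹ * K.el v * y ∈ T := (Subgroup.mem_normalizer_iff''.1 hy _).1 (K.mem v)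
      rw [extendByZero_mem T _ hm]
      obtain ⟨w, hw⟩ := K.surj _ hm
      rw [show (⟨y⁻¹ * K.el v * y, hm⟩ : T) = ⟨K.el w, K.mem w⟩ from Subtype.ext hw.symm, K.equiv_el]
      have hMv : sgn4 j w = v := by
        refine K.inj ?_
        rw [← K.act j w]
        have hc := K.comm hj (K.mem w)
        calc K.rep j * K.el w * (K.rep j)⁻¹ = K.rep j * (((K.rep j)⁻¹ * y) * K.el w) *
              ((K.rep j)⁻¹ * y)⁻¹ * (K.rep j)⁻¹ := by rw [hc]; group
          _ = y * K.el w * y⁻¹ := by group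
          _ = K.el v := by rw [hw]; group
      rw [← hMv, hinv]
    · refine extendByZero_not_mem T _ fun hm => ?_
      have := K.ti (g := y⁻¹) (K.mem v) (K.el_ne_one hv) (by simpa using hm)
      exact hy (by simpa using Subgroup.inv_mem _ this)
  rw [R, Pi.smul_apply, indFun, Finset.sum_congr rfl fun y _ => key y, ← Finset.sum_filter, Finset.sum_const,
    nsmul_eq_mul, ← Fintype.card_subtype, ← Nat.card_eq_fintype_card, K.nine, smul_eq_mul,
    show Nat.card {y // y ∈ Subgroup.normalizer (T : Set G)} = 36 from K.card_normalizer]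
  push_cast
  ring

theorem inner_fun (K : KHyp T) (f : V9 → ℤ) {χ : G → ℂ} (hχ : IsClassFunction G χ) :
    classInner (K.R f) χ = (36 : ℂ)⁻¹ * ∑ v : V9, (f v : ℂ) * conj (χ (K.el v)) := by
  classical
  haveI := Fintype.ofFinite T
  rw [R, classInner_smul_left, classInner_indFun T _ χ hχ, classInner, K.nine, ← K.equiv.sum_comp]
  simp only [Equiv.symm_apply_apply, Nat.cast_ofNat]
  rw [← mul_assoc, show ((4 : ℂ))⁻¹ * 9⁻¹ = 36⁻¹ by norm_num]
  rfl

theorem inner_R (K : KHyp T) {f g : V9 → ℤ} (hf0 : f 0 = 0) (hg : ∀ j v, g (sgn4 j v) = g v) (m : ℤ)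
    (hm : ∑ v : V9, f v * g v = 36 * m) : classInner (K.R f) (K.R g) = m := by
  rw [K.inner_fun f (K.R_class g),
    Finset.sum_congr rfl (g := fun v => ((f v * g v : ℤ) : ℂ)) fun v _ => ?_, ← Int.cast_sum, hm]
  · push_cast
    ring
  · by_cases hv : v = 0
    · simp [hv, hf0]
    · rw [K.R_el hg hv, map_intCast, Int.cast_mul]

theorem inner_R_one (K : KHyp T) {f : V9 → ℤ} (m : ℤ) (hm : ∑ v : V9, f v = 36 * m) :
    classInner (K.R f) (fun _ => 1) = m := by
  rw [K.inner_fun f (fun _ _ => rfl)]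
  simp only [map_one, mul_one]
  rw [← Int.cast_sum, hm]
  push_cast
  ring

/-- The inner product in terms of the three values. -/
theorem inner_values (K : KHyp T) {f : V9 → ℤ} (hf0 : f 0 = 0) (hinv : ∀ j v, f (sgn4 j v) = f v)
    {χ : G → ℂ} (hχ : IsClassFunction G χ) :
    classInner (K.R f) χ = (36 : ℂ)⁻¹ * (2 * f (1, 0) * conj (χ (K.el (1, 0))) +
      2 * f (0, 1) * conj (χ (K.el (0, 1))) + 4 * f (1, 1) * conj (χ (K.el (1, 1)))) := by
  rw [K.inner_fun f hχ]
  congr 1
  have hstep : ∀ j v, (f (sgn4 j v) : ℂ) * conj (χ (K.el (sgn4 j v))) = (f v : ℂ) * conj (χ (K.el v)) := by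
    intro j v
    rw [hinv, ← K.act, hχ]
  rw [show (Finset.univ : Finset V9) = {(0, 0), sgn4 0 (1, 0), sgn4 2 (1, 0), sgn4 0 (0, 1), sgn4 1 (0, 1),
      sgn4 0 (1, 1), sgn4 1 (1, 1), sgn4 2 (1, 1), sgn4 3 (1, 1)} by decide]
  rw [Finset.sum_insert (by decide), Finset.sum_insert (by decide), Finset.sum_insert (by decide),
    Finset.sum_insert (by decide), Finset.sum_insert (by decide), Finset.sum_insert (by decide),
    Finset.sum_insert (by decide), Finset.sum_insert (by decide), Finset.sum_singleton]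
  simp only [hstep]
  rw [show ((0, 0) : V9) = 0 from rfl, hf0]
  push_cast
  ring

theorem indFun_M (K : KHyp T) (f : V9 → ℂ) (j : Fin 4) :
    indFun T (fun t => f (sgn4 j (K.equiv.symm t))) = indFun T (fun t => f (K.equiv.symm t)) := by
  classical
  funext g
  simp only [indFun]
  congr 1
  refine Fintype.sum_bijective (fun x => x * (K.rep j)⁻¹) (Group.mulRight_bijective _) _ _ fun x => ?_
  have hiff : x⁻¹ * g * x ∈ T ↔ (x * (K.rep j)⁻¹)⁻¹ * g * (x * (K.rep j)⁻¹) ∈ T := by
    rw [show (x * (K.rep j)⁻¹)⁻¹ * g * (x * (K.rep j)⁻¹) = K.rep j * (x⁻¹ * g * x) * (K.rep j)⁻¹ by group]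
    exact Subgroup.mem_normalizer_iff.1 (K.repN j) _
  by_cases hm : x⁻¹ * g * x ∈ T
  · rw [extendByZero_mem T _ hm, extendByZero_mem T _ (hiff.1 hm)]
    obtain ⟨v, hv⟩ := K.surj _ hm
    rw [show (⟨x⁻¹ * g * x, hm⟩ : T) = ⟨K.el v, K.mem v⟩ from Subtype.ext hv.symm, K.equiv_el,
      show (⟨(x * (K.rep j)⁻¹)⁻¹ * g * (x * (K.rep j)⁻¹), hiff.1 hm⟩ : T) = ⟨K.el (sgn4 j v), K.mem _⟩
      from Subtype.ext (by
        show _ = K.el (sgn4 j v)
        rw [← K.act j v, hv]
        group), K.equiv_el]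
  · rw [extendByZero_not_mem T _ hm, extendByZero_not_mem T _ fun h' => hm (hiff.2 h')]

theorem R_eq_indFun (K : KHyp T) {f : V9 → ℤ} {h : V9 → ℂ} (hf : ∀ v, (f v : ℂ) = ∑ j : Fin 4, h (sgn4 j v)) :
    K.R f = indFun T (fun t => h (K.equiv.symm t)) := by
  have e2 : (fun t : T => (f (K.equiv.symm t) : ℂ)) = ∑ j : Fin 4, fun t => h (sgn4 j (K.equiv.symm t)) := by
    funext t
    rw [Finset.sum_apply]
    exact hf _
  rw [R, e2, indFun_sum, Finset.sum_congr rfl fun j _ => K.indFun_M h j,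
    Finset.sum_const, Finset.card_univ, Fintype.card_fin, ← Nat.cast_smul_eq_nsmul ℂ, smul_smul]
  norm_num

theorem gen_lam (K : KHyp T) (φ : V9 →+ ZMod 3) :
    IsGeneralizedCharacter T (fun t => Frame.cube (φ (K.equiv.symm t))) := by
  let lam : T →* ℂˣ := MonoidHom.mk' (fun s => Units.mk0 (Frame.cube (φ (K.equiv.symm s))) (by
      exact pow_ne_zero _ (Frame.cube_root.ne_zero (by norm_num)))) fun s t => by
    refine Units.ext ?_
    show Frame.cube _ = Frame.cube _ * Frame.cube _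
    rw [← Frame.cube_add, ← map_add]
    congr 2
    rw [Equiv.symm_apply_eq]
    refine Subtype.ext ?_
    show (s : G) * t = K.el _
    rw [K.add]
    exact congrArg₂ (· * ·) (congrArg Subtype.val (K.equiv.apply_symm_apply s)).symm
      (congrArg Subtype.val (K.equiv.apply_symm_apply t)).symm
  exact isGeneralizedCharacter_of_isCharacter (isCharacter_hom lam)

theorem cube_zero : Frame.cube 0 = 1 := by simp [Frame.cube]

theorem cube_pair' (k : ZMod 3) : Frame.cube k + Frame.cube (-k) = 2 - (iv k : ℂ) := by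
  have := Frame.cube_pair k
  rw [iv]
  linear_combination -this

theorem gen_fns (K : KHyp T) : Gen (K.R fx) ∧ Gen (K.R fy) ∧ Gen (K.R fz) := by
  have p1 := K.gen_lam (AddMonoidHom.fst _ _)
  have p2 := K.gen_lam (AddMonoidHom.snd _ _)
  have p3 := K.gen_lam (AddMonoidHom.fst _ _ + AddMonoidHom.snd _ _)
  have p0 : IsGeneralizedCharacter T (fun _ => (1 : ℂ)) :=
    isGeneralizedCharacter_of_isCharacter (isCharacter_of_isIrr isIrrCharacter_one)
  refine ⟨?_, ?_, ?_⟩
  · rw [K.R_eq_indFun (h := fun v => Frame.cube v.2 - Frame.cube (v.1 + v.2)) fun v => ?_]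
    · exact isGeneralizedCharacter_indFun T (isGeneralizedCharacter_sub p2 p3)
    · rw [Fin.sum_univ_four]
      show _ = Frame.cube v.2 - Frame.cube (v.1 + v.2) + (Frame.cube (-v.2) - Frame.cube (v.1 + -v.2)) +
        (Frame.cube v.2 - Frame.cube (-v.1 + v.2)) + (Frame.cube (-v.2) - Frame.cube (-v.1 + -v.2))
      have e1 := cube_pair' v.2
      have e2 := cube_pair' (v.1 + v.2)
      have e3 := cube_pair' (v.1 - v.2)
      rw [neg_add] at e2
      rw [neg_sub, sub_eq_neg_add v.2 v.1, sub_eq_add_neg v.1 v.2] at e3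
      rw [fx, sub_eq_add_neg v.1 v.2]
      push_cast
      linear_combination (-2 : ℂ) * e1 + e2 + e3
  · rw [K.R_eq_indFun (h := fun v => Frame.cube v.1 - Frame.cube (v.1 + v.2)) fun v => ?_]
    · exact isGeneralizedCharacter_indFun T (isGeneralizedCharacter_sub p1 p3)
    · rw [Fin.sum_univ_four]
      show _ = Frame.cube v.1 - Frame.cube (v.1 + v.2) + (Frame.cube v.1 - Frame.cube (v.1 + -v.2)) +
        (Frame.cube (-v.1) - Frame.cube (-v.1 + v.2)) + (Frame.cube (-v.1) - Frame.cube (-v.1 + -v.2))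
      have e1 := cube_pair' v.1
      have e2 := cube_pair' (v.1 + v.2)
      have e3 := cube_pair' (v.1 - v.2)
      rw [neg_add] at e2
      rw [neg_sub, sub_eq_neg_add v.2 v.1, sub_eq_add_neg v.1 v.2] at e3
      rw [fy, sub_eq_add_neg v.1 v.2]
      push_cast
      linear_combination (-2 : ℂ) * e1 + e2 + e3
  · rw [K.R_eq_indFun (h := fun v => 1 - Frame.cube v.1 - Frame.cube v.2 + Frame.cube (v.1 + v.2))
      fun v => ?_]
    · exact isGeneralizedCharacter_indFun T (isGeneralizedCharacter_add (isGeneralizedCharacter_sub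
        (isGeneralizedCharacter_sub p0 p1) p2) p3)
    · rw [Fin.sum_univ_four]
      show _ = 1 - Frame.cube v.1 - Frame.cube v.2 + Frame.cube (v.1 + v.2) +
        (1 - Frame.cube v.1 - Frame.cube (-v.2) + Frame.cube (v.1 + -v.2)) +
        (1 - Frame.cube (-v.1) - Frame.cube v.2 + Frame.cube (-v.1 + v.2)) +
        (1 - Frame.cube (-v.1) - Frame.cube (-v.2) + Frame.cube (-v.1 + -v.2))
      have e1 := cube_pair' v.1
      have e1' := cube_pair' v.2
      have e2 := cube_pair' (v.1 + v.2)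
      have e3 := cube_pair' (v.1 - v.2)
      rw [neg_add] at e2
      rw [neg_sub, sub_eq_neg_add v.2 v.1, sub_eq_add_neg v.1 v.2] at e3
      rw [fz, sub_eq_add_neg v.1 v.2]
      push_cast
      linear_combination (2 : ℂ) * e1 + (2 : ℂ) * e1' - e2 - e3

/-! ### The class algebra -/

/-- The functional `v ↦ Σ_χ ⟨v, χ⟩ χ(d) χ(a) / χ(1)`. -/
noncomputable def lfun (d a : G) (v : G → ℂ) : ℂ :=
  ∑ᶠ χ : IrrCharacter G, classInner v (χ : G → ℂ) * ((χ : G → ℂ) d * (χ : G → ℂ) a) / (χ : G → ℂ) 1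

theorem lfun_add (d a : G) (v w : G → ℂ) : lfun d a (v + w) = lfun d a v + lfun d a w := by
  have := Fintype.ofFinite (IrrCharacter G)
  simp only [lfun, finsum_eq_sum_of_fintype, ← Finset.sum_add_distrib]
  exact Finset.sum_congr rfl fun χ _ => by rw [classInner_add_left]; ring

theorem lfun_sg (d a : G) {v : G → ℂ} (hv : Sg v) : lfun d a v = v d * v a / v 1 := by
  classical
  have := Fintype.ofFinite (IrrCharacter G)
  obtain ⟨χ, ε, hε, rfl⟩ := hv.exists_irr
  simp only [lfun, finsum_eq_sum_of_fintype]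
  rw [Finset.sum_eq_single χ
    (fun ψ _ hψ => by rw [classInner_smul_left, classInner_irr_ne (Ne.symm hψ)]; simp)
    (fun h => absurd (Finset.mem_univ χ) h), classInner_smul_left, classInner_irr_self,
    Pi.smul_apply, Pi.smul_apply, Pi.smul_apply, smul_eq_mul, smul_eq_mul, smul_eq_mul]
  have h1 := irr_one_ne_zero χ
  rcases hε with rfl | rfl <;> push_cast <;> field_simp

theorem card_classes (K : KHyp T) {va : V9} (hva : OnAxis va) :
    Nat.card {x : G // IsConj (K.el (1, 1)) x} * 9 = Nat.card G ∧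
      Nat.card {x : G // IsConj (K.el va) x} * 18 = Nat.card G := by
  constructor
  · have e1 := (Subgroup.centralizer ({K.el (1, 1)} : Set G)).index_mul_card
    rw [← card_isConj, K.cent_diag rfl, K.nine] at e1
    exact e1
  · have e1 := (Subgroup.centralizer ({K.el va} : Set G)).index_mul_card
    have h2 : Nat.card {j // sgn4 j va = va} = 2 := by
      have hall : ∀ v : V9, v ≠ 0 → Od v = false → Fintype.card {j // sgn4 j v = v} = 2 := by decide
      rw [Nat.card_eq_fintype_card]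
      exact hall va hva.1 hva.2
    rw [← card_isConj, K.card_centralizer hva.1, h2] at e1
    exact e1

theorem classConst_count (K : KHyp T) {va v : V9} (hva : OnAxis va) (hv : v ≠ 0) :
    (classConst (K.el (1, 1)) (K.el va) (K.el v) : ℤ) = cnt va v := by
  classical
  rw [cnt, ← Fintype.card_subtype, ← Nat.card_eq_fintype_card, classConst, Nat.cast_inj]
  refine (Nat.card_congr (Equiv.ofBijective (fun w : {w : V9 // (Od w && Oa va (v - w)) = true} =>
    (⟨(K.el w.1, K.el (v - w.1)), ?_, ?_, ?_⟩ :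
      {p : G × G // IsConj (K.el (1, 1)) p.1 ∧ IsConj (K.el va) p.2 ∧ p.1 * p.2 = K.el v})) ⟨?_, ?_⟩)).symm
  · have h := w.2
    rw [Bool.and_eq_true] at h
    exact (K.isConj_iff_orbit (by decide)).2 ((orbit_d _).2 h.1)
  · have h := w.2
    rw [Bool.and_eq_true, Oa, decide_eq_true_eq] at h
    exact (K.isConj_iff_orbit hva.1).2 h.2
  · show K.el w.1 * K.el (v - w.1) = K.el v
    rw [← K.add, add_sub_cancel]
  · intro p q e
    exact Subtype.ext (K.inj (congrArg (fun z => z.1.1) e))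
  · rintro ⟨⟨y, z⟩, hy, hz, hyz⟩
    simp only at hy hz hyz
    obtain ⟨hyT, hzT⟩ := K.local_pairs hva (K.mem v) (K.el_ne_one hv) hy hz hyz
    obtain ⟨w, rfl⟩ := K.surj y hyT
    obtain ⟨w', rfl⟩ := K.surj z hzT
    have e : w + w' = v := K.inj (by rw [K.add, hyz])
    have ew : w' = v - w := eq_sub_of_add_eq' e
    subst ew
    refine ⟨⟨w, ?_⟩, rfl⟩
    rw [Bool.and_eq_true, Oa, decide_eq_true_eq]
    exact ⟨(orbit_d w).1 ((K.isConj_iff_orbit (by decide)).1 hy), (K.isConj_iff_orbit hva.1).1 hz⟩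

theorem lfun_R (K : KHyp T) {va : V9} (hva : OnAxis va) {f : V9 → ℤ} (hf0 : f 0 = 0) (m : ℤ)
    (hm : ∑ v : V9, f v * cnt va v = m) :
    lfun (K.el (1, 1)) (K.el va) (K.R f) = 9 * (m : ℂ) / (2 * (Nat.card G : ℂ)) := by
  classical
  have := Fintype.ofFinite (IrrCharacter G)
  obtain ⟨hd, ha⟩ := K.card_classes hva
  have hd' : (Nat.card {x : G // IsConj (K.el (1, 1)) x} : ℂ) * 9 = (Nat.card G : ℂ) := by exact_mod_cast hd
  have ha' : (Nat.card {x : G // IsConj (K.el va) x} : ℂ) * 18 = (Nat.card G : ℂ) := by exact_mod_cast ha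
  have hG := card_ne_zero' (G := G)
  have hS : ∀ v : V9, v ≠ 0 → ∑ χ : IrrCharacter G, conj ((χ : G → ℂ) (K.el v)) *
      ((χ : G → ℂ) (K.el (1, 1)) * (χ : G → ℂ) (K.el va)) / (χ : G → ℂ) 1 =
        (cnt va v : ℂ) * 162 / (Nat.card G : ℂ) := by
    intro v hv
    have e := classConst_formula (K.el (1, 1)) (K.el va) (K.el v)
    rw [finsum_eq_sum_of_fintype, show (classConst (K.el (1, 1)) (K.el va) (K.el v) : ℂ) = (cnt va v : ℂ) by
      rw [← K.classConst_count hva hv]; rfl] at e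
    rw [e, show (Nat.card {x : G // IsConj (K.el (1, 1)) x} : ℂ) = (Nat.card G : ℂ) / 9 by
      rw [← hd']; ring, show (Nat.card {x : G // IsConj (K.el va) x} : ℂ) = (Nat.card G : ℂ) / 18 by
      rw [← ha']; ring]
    rw [show ∑ χ : IrrCharacter G, conj ((χ : G → ℂ) (K.el v)) *
      ((χ : G → ℂ) (K.el (1, 1)) * (χ : G → ℂ) (K.el va)) / (χ : G → ℂ) 1 = ∑ χ : IrrCharacter G,
        (χ : G → ℂ) (K.el (1, 1)) * (χ : G → ℂ) (K.el va) * conj ((χ : G → ℂ) (K.el v)) / (χ : G → ℂ) 1
      from Finset.sum_congr rfl fun χ _ => by ring]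
    field_simp
    ring
  simp only [lfun, finsum_eq_sum_of_fintype, K.inner_fun f (isClassFunction_irr _)]
  rw [Finset.sum_congr rfl (g := fun χ : IrrCharacter G => ∑ v : V9, (36 : ℂ)⁻¹ * (f v : ℂ) *
      (conj ((χ : G → ℂ) (K.el v)) * ((χ : G → ℂ) (K.el (1, 1)) * (χ : G → ℂ) (K.el va)) / (χ : G → ℂ) 1))
      fun χ _ => by
        rw [Finset.mul_sum, Finset.sum_mul, Finset.sum_div]
        exact Finset.sum_congr rfl fun v _ => by ring,
    Finset.sum_comm,
    Finset.sum_congr rfl (g := fun v => ((f v * cnt va v : ℤ) : ℂ) * (9 / (2 * (Nat.card G : ℂ)))) fun v _ => ?_,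
    ← Finset.sum_mul, ← Int.cast_sum, hm]
  · ring
  · rw [← Finset.mul_sum]
    by_cases hv : v = 0
    · simp [hv, hf0]
    · rw [hS v hv]
      push_cast
      field_simp
      ring

end KHyp

end CfsgLib.Char.NineKlein
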