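import Cfsg.Agent.Lib.Char.NineKlein.Induced

/-!
# The normalizer is the whole group
-/

set_option autoImplicit false
set_option linter.unusedSectionVars false

namespace CfsgLib.Char.NineKlein

open scoped ComplexConjugate
open Cfsg CfsgLib.Char CfsgLib.Char.Signed CfsgLib.Char.NineTI

universe u

theorem cases_z {a b w e f : ℤ} (h1 : a + b + w = -3) (h2 : e + f + w = -3)
    (h : 1 + a ^ 2 + b ^ 2 + w ^ 2 + e ^ 2 + f ^ 2 ≤ 9) :
    (w = -1 ∨ w = -2) ∧ ((a * a = -a ∧ b * b = -b) ∨ (e * e = -e ∧ f * f = -f)) := by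
  have hb : b = -3 - w - a := by omega
  have hf : f = -3 - w - e := by omega
  subst hb hf
  have bw : -2 ≤ w ∧ w ≤ 2 := ⟨by nlinarith, by nlinarith⟩
  have ba : -2 ≤ a ∧ a ≤ 2 := ⟨by nlinarith, by nlinarith⟩
  have be : -2 ≤ e ∧ e ≤ 2 := ⟨by nlinarith, by nlinarith⟩
  obtain ⟨bw1, bw2⟩ := bw
  obtain ⟨ba1, ba2⟩ := ba
  obtain ⟨be1, be2⟩ := be
  interval_cases w <;> interval_cases a <;> interval_cases e <;> (norm_num at h) <;> norm_num

theorem sums_fns : (∑ v : V9, fx v * fx v = 36 * 3) ∧ (∑ v : V9, fy v * fy v = 36 * 3) ∧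
    (∑ v : V9, fz v * fz v = 36 * 9) ∧ (∑ v : V9, fx v * fy v = 36 * 1) ∧
    (∑ v : V9, fx v * fz v = 36 * -3) ∧ (∑ v : V9, fy v * fz v = 36 * -3) ∧
    (∑ v : V9, fx v = 36 * 0) ∧ (∑ v : V9, fy v = 36 * 0) ∧ (∑ v : V9, fz v = 36 * 1) := by
  decide +kernel

theorem sums_cnt : (∑ v : V9, fx v * cnt (1, 0) v = -12) ∧ (∑ v : V9, fx v * cnt (0, 1) v = 12) ∧
    (∑ v : V9, fy v * cnt (1, 0) v = 12) ∧ (∑ v : V9, fy v * cnt (0, 1) v = -12) := by
  decide +kernel

variable {G : Type u} [Group G] [Fintype G] {T : Subgroup G}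

theorem sq_le_card {v : G → ℂ} (hv : Sg v) {n : ℤ} (hn : v 1 = n) : n ^ 2 ≤ (Nat.card G : ℤ) := by
  classical
  have := Fintype.ofFinite (IrrCharacter G)
  obtain ⟨χ, ε, hε, hf⟩ := hv.exists_irr
  choose d hd0 hd using fun ψ : IrrCharacter G => isIrrCharacter_degree ψ.2
  have hs := sum_degree_sq (G := G)
  simp only [hd] at hs
  have hs' : ∑ ψ : IrrCharacter G, d ψ ^ 2 = Nat.card G := by exact_mod_cast hs
  have hle : d χ ^ 2 ≤ Nat.card G := hs' ▸ Finset.single_le_sum (fun ψ _ => Nat.zero_le (d ψ ^ 2))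
    (Finset.mem_univ χ)
  rw [hf, Pi.smul_apply, smul_eq_mul, hd] at hn
  have hn' : ε * (d χ : ℤ) = n := by exact_mod_cast hn
  rw [← hn', mul_pow, show ε ^ 2 = 1 by rcases hε with rfl | rfl <;> norm_num, one_mul]
  exact_mod_cast hle

theorem pair_orth {a b z : G → ℂ} (ha : Sg a) (hb : Sg b) (hab : iq a b = 0) (hz : Sg z)
    (h : iq (a + b) z = 0) : iq a z = 0 ∧ iq b z = 0 := by
  rw [iq_add_left ha.gen hb.gen hz.gen] at h
  have hb' := Orth.bessel (l := [a, b]) ⟨by simp [ha, hb], by simp [hab]⟩ hz.gen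
  simp only [List.map_cons, List.map_nil, List.sum_cons, List.sum_nil, hz.iq_self,
    iq_comm hz.gen ha.gen, iq_comm hz.gen hb.gen] at hb'
  have hy : iq b z = -iq a z := by omega
  rw [hy] at hb' ⊢
  have : iq a z = 0 := by nlinarith
  simp [this]

/-- The two class-algebra equations determine the common degree. -/
theorem bound_of {A B W : G → ℂ} (hW : Sg W) {za zb zw : ℤ}
    (hza : za * za = -za) (hzb : zb * zb = -zb) (hzw : zw = -1 ∨ zw = -2)
    (e1 : (za : ℂ) * (3 + za) / A 1 + (zb : ℂ) * (3 + zb) / B 1 + (zw : ℂ) * (3 + zw) / W 1 =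
      -54 / (Nat.card G : ℂ))
    (e2 : (za : ℂ) * za / A 1 + (zb : ℂ) * zb / B 1 + (zw : ℂ) * (3 + zw) / W 1 =
      54 / (Nat.card G : ℂ)) : Nat.card G ≤ 81 := by
  obtain ⟨n, hn0, hn⟩ := hW.apply_one_int
  have hza' : (za : ℂ) * za = -(za : ℂ) := by exact_mod_cast hza
  have hzb' : (zb : ℂ) * zb = -(zb : ℂ) := by exact_mod_cast hzb
  rw [show (za : ℂ) * (3 + za) = 2 * (za : ℂ) by linear_combination hza',
    show (zb : ℂ) * (3 + zb) = 2 * (zb : ℂ) by linear_combination hzb'] at e1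
  rw [hza', hzb'] at e2
  have hw : (zw : ℂ) * (3 + zw) = -2 := by rcases hzw with rfl | rfl <;> norm_num
  rw [hw, hn] at e1 e2
  have e3 : (-2 : ℂ) / n = 18 / (Nat.card G : ℂ) := by linear_combination (1 / 3 : ℂ) * e1 + (2 / 3 : ℂ) * e2
  have hn' : (n : ℂ) ≠ 0 := by exact_mod_cast hn0
  have hG := card_ne_zero' (G := G)
  field_simp at e3
  have e4 : (Nat.card G : ℤ) = -9 * n := by
    have : ((Nat.card G : ℤ) : ℂ) = ((-9 * n : ℤ) : ℂ) := by
      push_cast
      linear_combination (-1 / 2 : ℂ) * e3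
    exact_mod_cast this
  have hsq := sq_le_card hW hn
  have hpos : (0 : ℤ) < (Nat.card G : ℤ) := by exact_mod_cast Nat.card_pos
  have : (Nat.card G : ℤ) ≤ 81 := by nlinarith
  exact_mod_cast this

/-- The order is bounded. -/
theorem KHyp.card_le (K : KHyp T) : Nat.card G ≤ 81 := by
  classical
  obtain ⟨gX, gY, gZ⟩ := K.gen_fns
  obtain ⟨sxx, syy, szz, sxy, sxz, syz, sx, sy, sz⟩ := sums_fns
  obtain ⟨x0, y0, z0, xa, xb, xd, ya, yb, yd, za_, zb_, zd⟩ := vals_fns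
  have ix := fun j v => (inv_fns j v).1
  have iy := fun j v => (inv_fns j v).2.1
  have iz := fun j v => (inv_fns j v).2.2
  set X := K.R fx with hX
  set Y := K.R fy with hY
  set Z := K.R fz with hZ
  have nxx : iq X X = 3 := iq_eq _ (K.inner_R x0 ix 3 sxx)
  have nyy : iq Y Y = 3 := iq_eq _ (K.inner_R y0 iy 3 syy)
  have nzz : iq Z Z = 9 := iq_eq _ (K.inner_R z0 iz 9 szz)
  have nxy : iq X Y = 1 := iq_eq _ (K.inner_R x0 iy 1 sxy)
  have nxz : iq X Z = -3 := iq_eq _ (K.inner_R x0 iz (-3) sxz)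
  have nyz : iq Y Z = -3 := iq_eq _ (K.inner_R y0 iz (-3) syz)
  set I : G → ℂ := fun _ => 1 with hI
  have gI : Gen I := sg_unit.gen
  have nxI : iq X I = 0 := iq_eq _ (K.inner_R_one 0 sx)
  have nyI : iq Y I = 0 := iq_eq _ (K.inner_R_one 0 sy)
  have nzI : iq Z I = 1 := iq_eq _ (K.inner_R_one 1 sz)
  have hval : ∀ χ : G → ℂ, Sg χ → χ (K.el (1, 1)) = (iq Z χ : ℂ) ∧
      χ (K.el (1, 0)) = 3 * (iq X χ : ℂ) + (iq Z χ : ℂ) ∧
      χ (K.el (0, 1)) = 3 * (iq Y χ : ℂ) + (iq Z χ : ℂ) := by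
    intro χ hχ
    have hc := isClassFunction_of_isGeneralized hχ.gen
    have h1 := K.inner_values z0 iz hc
    have h2 := K.inner_values x0 ix hc
    have h3 := K.inner_values y0 iy hc
    rw [← hZ, iq_spec gZ hχ.gen, za_, zb_, zd] at h1
    rw [← hX, iq_spec gX hχ.gen, xa, xb, xd] at h2
    rw [← hY, iq_spec gY hχ.gen, ya, yb, yd] at h3
    have ed : conj (χ (K.el (1, 1))) = (iq Z χ : ℂ) := by
      push_cast at h1
      linear_combination -h1
    have ea : conj (χ (K.el (1, 0))) = 3 * (iq X χ : ℂ) + (iq Z χ : ℂ) := by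
      push_cast at h2
      linear_combination (-3 : ℂ) * h2 + ed
    have eb : conj (χ (K.el (0, 1))) = 3 * (iq Y χ : ℂ) + (iq Z χ : ℂ) := by
      push_cast at h3
      linear_combination (-3 : ℂ) * h3 + ed
    refine ⟨?_, ?_, ?_⟩
    · rw [← Complex.conj_conj (χ (K.el (1, 1))), ed, map_intCast]
    · rw [← Complex.conj_conj (χ (K.el (1, 0))), ea]; simp [map_ofNat]
    · rw [← Complex.conj_conj (χ (K.el (0, 1))), eb]; simp [map_ofNat]
  -- the constituent common to the first two functions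
  obtain ⟨A, B, W, hA, hB, hW, hAB, hAW, hBW, hXe, yA, yB, yW⟩ : ∃ A B W : G → ℂ, Sg A ∧ Sg B ∧ Sg W ∧
      iq A B = 0 ∧ iq A W = 0 ∧ iq B W = 0 ∧ X = A + B + W ∧ iq Y A = 0 ∧ iq Y B = 0 ∧ iq Y W = 1 := by
    obtain ⟨a, b, c, ha, hb, hc, hab, hac, hbc, he⟩ := exists_three gX nxx
    have hs : iq Y a + iq Y b + iq Y c = 1 := by
      rw [← iq_add_right gY ha.gen hb.gen,
        ← iq_add_right gY (isGeneralizedCharacter_add ha.gen hb.gen) hc.gen, ← he, iq_comm gY gX, nxy]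
    have hbes := Orth.bessel (l := [a, b, c]) ⟨by simp [ha, hb, hc], by simp [hab, hac, hbc]⟩ gY
    simp only [List.map_cons, List.map_nil, List.sum_cons, List.sum_nil, nyy] at hbes
    have no_minus : ∀ a b c : G → ℂ, Sg a → Sg b → Sg c → iq a b = 0 → iq a c = 0 → iq b c = 0 →
        X = a + b + c → iq Y a = 1 → iq Y b = 1 → iq Y c = -1 → False := by
      intro a b c ha hb hc hab hac hbc he y1 y2 y3
      have gab := isGeneralizedCharacter_add ha.gen hb.gen
      have gs : Gen (a + b - c) := isGeneralizedCharacter_sub gab hc.gen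
      have hz : iq (Y - (a + b - c)) (Y - (a + b - c)) = 0 := by
        rw [iq_sub_left gY gs (isGeneralizedCharacter_sub gY gs), iq_sub_right gY gY gs,
          iq_sub_right gs gY gs, iq_comm gs gY, nyy, iq_sub_right gY gab hc.gen,
          iq_add_right gY ha.gen hb.gen, y1, y2, y3, iq_sub_left gab hc.gen gs,
          iq_sub_right gab gab hc.gen, iq_sub_right hc.gen gab hc.gen,
          iq_add_left ha.gen hb.gen gab, iq_add_right ha.gen ha.gen hb.gen, iq_add_right hb.gen ha.gen hb.gen,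
          iq_add_left ha.gen hb.gen hc.gen, iq_add_right hc.gen ha.gen hb.gen, ha.iq_self, hb.iq_self,
          hc.iq_self, iq_comm hb.gen ha.gen, iq_comm hc.gen ha.gen, iq_comm hc.gen hb.gen, hab, hac, hbc]
        norm_num
      have e : Y = a + b - c := sub_eq_zero.1 (eq_zero_of_iq_self (isGeneralizedCharacter_sub gY gs) hz)
      have e1 : (0 : ℂ) = a 1 + b 1 + c 1 := by
        rw [← K.R_one x0, ← hX, he]; rfl
      have e2 : (0 : ℂ) = a 1 + b 1 - c 1 := by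
        rw [← K.R_one y0, ← hY, e]; rfl
      exact hc.apply_one_ne (by linear_combination (-1 / 2 : ℂ) * e1 + (1 / 2 : ℂ) * e2)
    have hcases : (iq Y a = 0 ∧ iq Y b = 0 ∧ iq Y c = 1) ∨ (iq Y a = 0 ∧ iq Y b = 1 ∧ iq Y c = 0) ∨
        (iq Y a = 1 ∧ iq Y b = 0 ∧ iq Y c = 0) ∨ (iq Y a = 1 ∧ iq Y b = 1 ∧ iq Y c = -1) ∨
        (iq Y a = 1 ∧ iq Y b = -1 ∧ iq Y c = 1) ∨ (iq Y a = -1 ∧ iq Y b = 1 ∧ iq Y c = 1) := by
      have l1 : -1 ≤ iq Y a ∧ iq Y a ≤ 1 := ⟨by nlinarith, by nlinarith⟩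
      have l2 : -1 ≤ iq Y b ∧ iq Y b ≤ 1 := ⟨by nlinarith, by nlinarith⟩
      have l3 : -1 ≤ iq Y c ∧ iq Y c ≤ 1 := ⟨by nlinarith, by nlinarith⟩
      omega
    have gac := isGeneralizedCharacter_add ha.gen hc.gen
    rcases hcases with ⟨p, q, r⟩ | ⟨p, q, r⟩ | ⟨p, q, r⟩ | ⟨p, q, r⟩ | ⟨p, q, r⟩ | ⟨p, q, r⟩
    · exact ⟨a, b, c, ha, hb, hc, hab, hac, hbc, he, p, q, r⟩
    · exact ⟨a, c, b, ha, hc, hb, hac, hab, by rw [iq_comm hc.gen hb.gen, hbc], by rw [he]; abel, p, r, q⟩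
    · exact ⟨b, c, a, hb, hc, ha, hbc, by rw [iq_comm hb.gen ha.gen, hab],
        by rw [iq_comm hc.gen ha.gen, hac], by rw [he]; abel, q, r, p⟩
    · exact (no_minus a b c ha hb hc hab hac hbc he p q r).elim
    · exact (no_minus a c b ha hc hb hac hab (by rw [iq_comm hc.gen hb.gen, hbc]) (by rw [he]; abel) p r q).elim
    · exact (no_minus b c a hb hc ha hbc (by rw [iq_comm hb.gen ha.gen, hab])
        (by rw [iq_comm hc.gen ha.gen, hac]) (by rw [he]; abel) q r p).elim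
  have gY' : Gen (Y - W) := isGeneralizedCharacter_sub gY hW.gen
  have nY' : iq (Y - W) (Y - W) = 2 := by
    rw [iq_sub_left gY hW.gen gY', iq_sub_right gY gY hW.gen, iq_sub_right hW.gen gY hW.gen, nyy, yW,
      iq_comm hW.gen gY, yW, hW.iq_self]
    norm_num
  obtain ⟨E, F, hE, hF, hEF, hYe⟩ := exists_pair gY' nY'
  have hYs : Y = W + E + F := by rw [add_assoc, ← hYe]; abel
  have orthY : ∀ {z : G → ℂ}, Sg z → iq Y z = iq W z → iq E z = 0 ∧ iq F z = 0 := fun {z} hz h =>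
    pair_orth hE hF hEF hz (by rw [← hYe, iq_sub_left gY hW.gen hz.gen, h, sub_self])
  obtain ⟨iA, iB, iW⟩ := orth_summand hA hB hW hAB hAW hBW sg_unit (hXe ▸ nxI)
  obtain ⟨EI, FI⟩ := orthY sg_unit (by rw [nyI, iW])
  obtain ⟨EA, FA⟩ := orthY hA (by rw [yA, iq_comm hW.gen hA.gen, hAW])
  obtain ⟨EB, FB⟩ := orthY hB (by rw [yB, iq_comm hW.gen hB.gen, hBW])
  obtain ⟨EW, FW⟩ := orthY hW (by rw [yW, hW.iq_self])
  have cm : ∀ {p q : G → ℂ}, Sg p → Sg q → iq p q = 0 → iq q p = 0 := fun hp hq h => by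
    rw [iq_comm hq.gen hp.gen, h]
  have hbes := Orth.bessel (l := [I, A, B, W, E, F]) ⟨by simp [hI, sg_unit, hA, hB, hW, hE, hF], by
    simp [cm hA sg_unit iA, cm hB sg_unit iB, cm hW sg_unit iW, cm hE sg_unit EI, cm hF sg_unit FI, hI,
      hAB, hAW, hBW, cm hE hA EA, cm hF hA FA, cm hE hB EB, cm hF hB FB, cm hE hW EW, cm hF hW FW, hEF]⟩ gZ
  simp only [List.map_cons, List.map_nil, List.sum_cons, List.sum_nil, nzz, nzI, one_pow, add_zero,
    ← add_assoc] at hbes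
  have s1 : iq Z A + iq Z B + iq Z W = -3 := by
    rw [← iq_add_right gZ hA.gen hB.gen,
      ← iq_add_right gZ (isGeneralizedCharacter_add hA.gen hB.gen) hW.gen, ← hXe, iq_comm gZ gX, nxz]
  have s2 : iq Z E + iq Z F + iq Z W = -3 := by
    have := congrArg (fun v => iq Z v) hYs
    simp only [iq_comm gZ gY, nyz, iq_add_right gZ (isGeneralizedCharacter_add hW.gen hE.gen) hF.gen,
      iq_add_right gZ hW.gen hE.gen] at this
    omega
  obtain ⟨hzw, hcase⟩ := cases_z s1 s2 hbes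
  -- the multiplicities
  have xA : iq X A = 1 := by
    rw [hXe, iq_add_left (isGeneralizedCharacter_add hA.gen hB.gen) hW.gen hA.gen,
      iq_add_left hA.gen hB.gen hA.gen, hA.iq_self, cm hA hB hAB, cm hA hW hAW]
    norm_num
  have xB : iq X B = 1 := by
    rw [hXe, iq_add_left (isGeneralizedCharacter_add hA.gen hB.gen) hW.gen hB.gen,
      iq_add_left hA.gen hB.gen hB.gen, hB.iq_self, hAB, cm hB hW hBW]
    norm_num
  have xW : iq X W = 1 := by
    rw [hXe, iq_add_left (isGeneralizedCharacter_add hA.gen hB.gen) hW.gen hW.gen,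
      iq_add_left hA.gen hB.gen hW.gen, hW.iq_self, hAW, hBW]
    norm_num
  have xE : iq X E = 0 := by
    rw [hXe, iq_add_left (isGeneralizedCharacter_add hA.gen hB.gen) hW.gen hE.gen,
      iq_add_left hA.gen hB.gen hE.gen, cm hE hA EA, cm hE hB EB, cm hE hW EW]
    norm_num
  have xF : iq X F = 0 := by
    rw [hXe, iq_add_left (isGeneralizedCharacter_add hA.gen hB.gen) hW.gen hF.gen,
      iq_add_left hA.gen hB.gen hF.gen, cm hF hA FA, cm hF hB FB, cm hF hW FW]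
    norm_num
  have yE : iq Y E = 1 := by
    rw [hYs, iq_add_left (isGeneralizedCharacter_add hW.gen hE.gen) hF.gen hE.gen,
      iq_add_left hW.gen hE.gen hE.gen, hE.iq_self, cm hE hW EW, cm hE hF hEF]
    norm_num
  have yF : iq Y F = 1 := by
    rw [hYs, iq_add_left (isGeneralizedCharacter_add hW.gen hE.gen) hF.gen hF.gen,
      iq_add_left hW.gen hE.gen hF.gen, hF.iq_self, cm hF hW FW, hEF]
    norm_num
  obtain ⟨cxa, cxb, cya, cyb⟩ := sums_cnt
  have oa : OnAxis ((1, 0) : V9) := ⟨by decide, rfl⟩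
  have ob : OnAxis ((0, 1) : V9) := ⟨by decide, rfl⟩
  obtain ⟨dA, aA, bA⟩ := hval A hA
  obtain ⟨dB, aB, bB⟩ := hval B hB
  obtain ⟨dW, aW, bW⟩ := hval W hW
  obtain ⟨dE, aE, bE⟩ := hval E hE
  obtain ⟨dF, aF, bF⟩ := hval F hF
  simp only [xA, xB, xW, xE, xF, Int.cast_one, Int.cast_zero, mul_one, mul_zero, zero_add] at aA aB aW aE aF
  simp only [yA, yB, yW, yE, yF, Int.cast_one, Int.cast_zero, mul_one, mul_zero, zero_add] at bA bB bW bE bF
  rcases hcase with ⟨ha', hb'⟩ | ⟨he', hf'⟩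
  · have e1 := K.lfun_R oa x0 _ cxa
    have e2 := K.lfun_R ob x0 _ cxb
    rw [← hX, hXe, lfun_add, lfun_add, lfun_sg _ _ hA, lfun_sg _ _ hB, lfun_sg _ _ hW] at e1 e2
    rw [dA, dB, dW, aA, aB, aW] at e1
    rw [dA, dB, dW, bA, bB, bW] at e2
    refine bound_of hW ha' hb' hzw (A := A) (B := B) ?_ ?_
    · rw [e1]; push_cast; ring
    · rw [e2]; push_cast; ring
  · have e1 := K.lfun_R ob y0 _ cyb
    have e2 := K.lfun_R oa y0 _ cya
    rw [← hY, hYs, lfun_add, lfun_add, lfun_sg _ _ hW, lfun_sg _ _ hE, lfun_sg _ _ hF] at e1 e2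
    rw [dE, dF, dW, bE, bF, bW] at e1
    rw [dE, dF, dW, aE, aF, aW] at e2
    refine bound_of hW he' hf' hzw (A := E) (B := F) ?_ ?_
    · push_cast at e1 ⊢
      linear_combination e1
    · push_cast at e2 ⊢
      linear_combination e2

/-- The normalizer is the whole group. -/
theorem KHyp.normalizer_eq_top (K : KHyp T) : Subgroup.normalizer (T : Set G) = ⊤ := by
  have h1 := (Subgroup.normalizer (T : Set G)).card_mul_index
  rw [K.card_normalizer] at h1
  have hle := K.card_le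
  have hidx : (Subgroup.normalizer (T : Set G)).index = 1 ∨ (Subgroup.normalizer (T : Set G)).index = 2 := by
    have : (Subgroup.normalizer (T : Set G)).index ≠ 0 := Subgroup.index_ne_zero_of_finite
    omega
  rcases hidx with e | e
  · exact Subgroup.index_eq_one.1 e
  · have hn := Subgroup.normal_of_index_eq_two e
    refine eq_top_iff.2 fun g _ => ?_
    refine Subgroup.mem_normalizer_iff_map_conj_eq.2 (Subgroup.eq_of_le_of_card_ge ?_ ?_)
    · rintro _ ⟨t, ht, rfl⟩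
      refine K.cube_mem _ (hn.conj_mem t (Subgroup.le_normalizer ht) g) ?_
      show (g * t * g⁻¹) ^ 3 = 1
      rw [conj_pow, K.cube ht]; group
    · exact (Subgroup.card_map_of_injective (MulAut.conj g).injective).ge

end CfsgLib.Char.NineKlein
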