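import Cfsg.Agent.Lib.Char.NineTI.Tools

/-!
# Self-centralizing elementary subgroups of order nine with a four-group as automizer

A subgroup `T` of order nine and exponent three on which its normalizer induces the diagonal sign
changes, containing the elements of order three of its normalizer, with the centralizers of its
non-trivial elements inside the normalizer: fusion, products of two classes and induced functions.
-/

set_option autoImplicit false
set_option linter.unusedSectionVars false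

namespace CfsgLib.Char.NineKlein

open scoped ComplexConjugate
open Cfsg CfsgLib.Char CfsgLib.Char.Signed CfsgLib.Char.NineTI

universe u

variable {G : Type u} [Group G]

/-- The sign changes. -/
def sgn4 : Fin 4 → V9 → V9 :=
  ![fun v => v, fun v => (v.1, -v.2), fun v => (-v.1, v.2), fun v => (-v.1, -v.2)]

/-- Vectors off the axes. -/
def Od (v : V9) : Bool := decide (v.1 ≠ 0 ∧ v.2 ≠ 0)

/-- Vectors on the axes. -/
def OnAxis (v : V9) : Prop := v ≠ 0 ∧ Od v = false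

theorem orbit_d : ∀ v, (∃ j, sgn4 j (1, 1) = v) ↔ Od v = true := by decide
theorem sgn_faithful : ∀ i j, (∀ v, sgn4 i v = sgn4 j v) → i = j := by decide
theorem fix_d : ∀ v, Od v = true → ∀ j, sgn4 j v = v → j = 0 := by decide
theorem sgn_zero : ∀ v, sgn4 0 v = v := by decide

/-- The hypothesis, in coordinates. -/
structure KHyp (T : Subgroup G) where
  /-- the coordinates -/
  el : V9 → G
  /-- the representatives -/
  rep : Fin 4 → G
  mem : ∀ v, el v ∈ T
  add : ∀ v w, el (v + w) = el v * el w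
  inj : Function.Injective el
  surj : ∀ t ∈ T, ∃ v, el v = t
  act : ∀ j v, rep j * el v * (rep j)⁻¹ = el (sgn4 j v)
  repN : ∀ j, rep j ∈ Subgroup.normalizer (T : Set G)
  cover : ∀ y ∈ Subgroup.normalizer (T : Set G), ∃ j, (rep j)⁻¹ * y ∈ T
  rep_zero : rep 0 = 1
  loc : ∀ t ∈ T, t ≠ 1 → Subgroup.centralizer ({t} : Set G) ≤ Subgroup.normalizer (T : Set G)
  cube_mem : ∀ y ∈ Subgroup.normalizer (T : Set G), y ^ 3 = 1 → y ∈ T

namespace KHyp

variable {T : Subgroup G}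

theorem el_zero (K : KHyp T) : K.el 0 = 1 := by
  have h1 := K.add 0 0
  rw [add_zero] at h1
  exact left_eq_mul.1 h1

theorem el_ne_one (K : KHyp T) {v : V9} (hv : v ≠ 0) : K.el v ≠ 1 := fun e1 =>
  hv (K.inj (e1.trans K.el_zero.symm))

theorem el_cube (K : KHyp T) (v : V9) : K.el v ^ 3 = 1 := by
  rw [pow_succ, pow_two, ← K.add, ← K.add, ← K.el_zero]
  congr 1
  revert v
  decide

theorem cube (K : KHyp T) {t : G} (ht : t ∈ T) : t ^ 3 = 1 := by
  obtain ⟨v, rfl⟩ := K.surj t ht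
  exact K.el_cube v

theorem comm (K : KHyp T) {a b : G} (ha : a ∈ T) (hb : b ∈ T) : a * b = b * a := by
  obtain ⟨v, rfl⟩ := K.surj a ha
  obtain ⟨w, rfl⟩ := K.surj b hb
  rw [← K.add, ← K.add, add_comm]

/-- The non-trivial elements form a trivial intersection set. -/
theorem ti [Finite G] (K : KHyp T) {g c : G} (hc : c ∈ T) (hc1 : c ≠ 1) (hg : g * c * g⁻¹ ∈ T) :
    g ∈ Subgroup.normalizer (T : Set G) := by
  have hsub : ∀ t ∈ T, g⁻¹ * t * g ∈ T := by
    intro t ht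
    refine K.cube_mem _ (K.loc c hc hc1 (Subgroup.mem_centralizer_singleton_iff.2 ?_)) ?_
    · calc g⁻¹ * t * g * c = g⁻¹ * (t * (g * c * g⁻¹)) * g := by group
        _ = g⁻¹ * ((g * c * g⁻¹) * t) * g := by rw [K.comm ht hg]
        _ = c * (g⁻¹ * t * g) := by group
    · rw [show g⁻¹ * t * g = g⁻¹ * t * g⁻¹⁻¹ by group, conj_pow, K.cube ht]; group
  have : g⁻¹ ∈ Subgroup.normalizer (T : Set G) := by
    refine Subgroup.mem_normalizer_iff_map_conj_eq.2 (Subgroup.eq_of_le_of_card_ge ?_ ?_)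
    · rintro _ ⟨t, ht, rfl⟩
      show g⁻¹ * t * g⁻¹⁻¹ ∈ T
      rw [inv_inv]
      exact hsub t ht
    · exact (Subgroup.card_map_of_injective (MulAut.conj g⁻¹).injective).ge
  simpa using Subgroup.inv_mem _ this

theorem isConj_iff_orbit [Finite G] (K : KHyp T) {v w : V9} (hv : v ≠ 0) :
    IsConj (K.el v) (K.el w) ↔ ∃ j, sgn4 j v = w := by
  refine ⟨fun hc => ?_, fun ⟨j, hj⟩ => isConj_iff.2 ⟨K.rep j, by rw [K.act, hj]⟩⟩
  obtain ⟨g, hg⟩ := isConj_iff.1 hc
  have hgN := K.ti (K.mem v) (K.el_ne_one hv) (hg ▸ K.mem w)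
  obtain ⟨j, hj⟩ := K.cover g hgN
  refine ⟨j, K.inj ?_⟩
  rw [← hg, ← K.act]
  calc K.rep j * K.el v * (K.rep j)⁻¹ = K.rep j * (((K.rep j)⁻¹ * g) * K.el v) *
        ((K.rep j)⁻¹ * g)⁻¹ * (K.rep j)⁻¹ := by rw [K.comm hj (K.mem v)]; group
    _ = g * K.el v * g⁻¹ := by group

theorem mem_centralizer_iff (K : KHyp T) {v : V9} (hv : v ≠ 0) {g : G} :
    g ∈ Subgroup.centralizer ({K.el v} : Set G) ↔ ∃ j, sgn4 j v = v ∧ (K.rep j)⁻¹ * g ∈ T := by
  constructor
  · intro hg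
    obtain ⟨j, hj⟩ := K.cover g (K.loc _ (K.mem v) (K.el_ne_one hv) hg)
    refine ⟨j, K.inj ?_, hj⟩
    rw [← K.act]
    have e := Subgroup.mem_centralizer_singleton_iff.1 hg
    calc K.rep j * K.el v * (K.rep j)⁻¹ = K.rep j * (((K.rep j)⁻¹ * g) * K.el v) *
          ((K.rep j)⁻¹ * g)⁻¹ * (K.rep j)⁻¹ := by rw [K.comm hj (K.mem v)]; group
      _ = g * K.el v * g⁻¹ := by group
      _ = K.el v := by rw [e, mul_inv_cancel_right]
  · rintro ⟨j, hj, hm⟩
    refine Subgroup.mem_centralizer_singleton_iff.2 ?_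
    calc g * K.el v = K.rep j * ((K.rep j)⁻¹ * g * K.el v) := by group
      _ = K.rep j * K.el v * (K.rep j)⁻¹ * g := by rw [K.comm hm (K.mem v)]; group
      _ = K.el v * g := by rw [K.act, hj]

theorem cent_diag (K : KHyp T) {v : V9} (hv : Od v = true) :
    Subgroup.centralizer ({K.el v} : Set G) = T := by
  have hv0 : v ≠ 0 := by rintro rfl; simp [Od] at hv
  ext g
  rw [K.mem_centralizer_iff hv0]
  refine ⟨fun ⟨j, hj, hm⟩ => ?_, fun hg => ⟨0, sgn_zero v, by rwa [K.rep_zero, inv_one, one_mul]⟩⟩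
  rw [fix_d v hv j hj, K.rep_zero, inv_one, one_mul] at hm
  exact hm

/-- The equivalence of coordinates. -/
noncomputable def equiv (K : KHyp T) : V9 ≃ T :=
  Equiv.ofBijective (fun v => ⟨K.el v, K.mem v⟩)
    ⟨fun _ _ e => K.inj (congrArg Subtype.val e), fun t => by
      obtain ⟨v, hv⟩ := K.surj t t.2
      exact ⟨v, Subtype.ext hv⟩⟩

theorem nine (K : KHyp T) : Nat.card T = 9 := by
  rw [← Nat.card_congr K.equiv]
  simp [V9]

theorem distinct (K : KHyp T) (i j : Fin 4) (h : (K.rep i)⁻¹ * K.rep j ∈ T) : i = j := by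
  refine sgn_faithful i j fun v => K.inj ?_
  rw [← K.act i, ← K.act j]
  calc K.rep i * K.el v * (K.rep i)⁻¹ = K.rep i * (((K.rep i)⁻¹ * K.rep j) * K.el v) *
        ((K.rep i)⁻¹ * K.rep j)⁻¹ * (K.rep i)⁻¹ := by rw [K.comm h (K.mem v)]; group
    _ = K.rep j * K.el v * (K.rep j)⁻¹ := by group

theorem card_centralizer (K : KHyp T) {v : V9} (hv : v ≠ 0) :
    Nat.card (Subgroup.centralizer ({K.el v} : Set G)) = Nat.card {j // sgn4 j v = v} * 9 := by
  rw [← K.nine, ← Nat.card_prod]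
  refine (Nat.card_congr (Equiv.ofBijective
    (fun z : {j // sgn4 j v = v} × T => (⟨K.rep z.1.1 * (z.2 : G), (K.mem_centralizer_iff hv).2
      ⟨z.1.1, z.1.2, by rw [inv_mul_cancel_left]; exact z.2.2⟩⟩ :
        Subgroup.centralizer ({K.el v} : Set G))) ⟨?_, ?_⟩)).symm
  · rintro ⟨⟨i, hi⟩, a⟩ ⟨⟨j, hj⟩, b⟩ e1
    have e2 : K.rep i * (a : G) = K.rep j * (b : G) := congrArg Subtype.val e1
    have : i = j := K.distinct i j (by
      rw [show (K.rep i)⁻¹ * K.rep j = (a : G) * (b : G)⁻¹ by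
        rw [inv_mul_eq_iff_eq_mul, ← mul_assoc, e2, mul_inv_cancel_right]]
      exact T.mul_mem a.2 (T.inv_mem b.2))
    subst this
    exact Prod.ext rfl (Subtype.ext (mul_left_cancel e2))
  · rintro ⟨y, hy⟩
    obtain ⟨j, hj, hm⟩ := (K.mem_centralizer_iff hv).1 hy
    exact ⟨(⟨j, hj⟩, ⟨_, hm⟩), Subtype.ext (mul_inv_cancel_left _ _)⟩

theorem card_normalizer (K : KHyp T) : Nat.card (Subgroup.normalizer (T : Set G)) = 36 := by
  rw [show (36 : ℕ) = Nat.card (Fin 4) * 9 by simp, ← K.nine, ← Nat.card_prod]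
  refine (Nat.card_congr (Equiv.ofBijective
    (fun z : Fin 4 × T => (⟨K.rep z.1 * (z.2 : G), Subgroup.mul_mem _ (K.repN z.1)
      (Subgroup.le_normalizer z.2.2)⟩ : Subgroup.normalizer (T : Set G))) ⟨?_, ?_⟩)).symm
  · rintro ⟨i, a⟩ ⟨j, b⟩ e1
    have e2 : K.rep i * (a : G) = K.rep j * (b : G) := congrArg Subtype.val e1
    have : i = j := K.distinct i j (by
      rw [show (K.rep i)⁻¹ * K.rep j = (a : G) * (b : G)⁻¹ by
        rw [inv_mul_eq_iff_eq_mul, ← mul_assoc, e2, mul_inv_cancel_right]]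
      exact T.mul_mem a.2 (T.inv_mem b.2))
    subst this
    exact Prod.ext rfl (Subtype.ext (mul_left_cancel e2))
  · rintro ⟨y, hy⟩
    obtain ⟨j, hj⟩ := K.cover y hy
    exact ⟨(j, ⟨_, hj⟩), Subtype.ext (mul_inv_cancel_left _ _)⟩

/-- An element of order three with product of order three with a diagonal element commutes with it
or is conjugate to it. -/
theorem triple [Finite G] (K : KHyp T) {v : V9} (hv : Od v = true) {y : G} (hy : y ^ 3 = 1)
    (hxy : (K.el v * y) ^ 3 = 1) : K.el v * y = y * K.el v ∨ IsConj (K.el v) y := by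
  classical
  have hC := K.cent_diag hv
  have hx : K.el v ^ 3 = 1 := K.el_cube v
  set x := K.el v with hxdef
  have hinT : ∀ r : G, r * x = x * r → r ∈ T := fun r hr => by
    rw [← hC]; exact Subgroup.mem_centralizer_singleton_iff.2 hr
  set u := x⁻¹ * y with hu
  set w₀ := y * x⁻¹ with hw₀
  have hxx : x⁻¹ * x⁻¹ = x := by
    calc x⁻¹ * x⁻¹ = x⁻¹ * x⁻¹ * x ^ 3 := by rw [hx, mul_one]
      _ = x := by rw [pow_succ, pow_two]; group
  have hyy : y * y = y⁻¹ := eq_inv_of_mul_eq_one_left (by rw [← pow_two, ← pow_succ, hy])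
  have hyxy : y * x * y = x⁻¹ * y⁻¹ * x⁻¹ := by
    have e : y * x * y = x⁻¹ * ((x * y) ^ 3) * (y⁻¹ * x⁻¹) := by
      rw [pow_succ, pow_two]; group
    rw [e, hxy]; group
  have huv : u * w₀ = w₀ * u := by
    calc u * w₀ = x⁻¹ * (y * y) * x⁻¹ := by rw [hu, hw₀]; group
      _ = y * x * y := by rw [hyy, hyxy]
      _ = y * (x⁻¹ * x⁻¹) * y := by rw [hxx]
      _ = w₀ * u := by rw [hu, hw₀]; group
  set A := Subgroup.closure ({u, w₀} : Set G) with hA
  haveI : IsMulCommutative A := Subgroup.isMulCommutative_closure (by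
    rintro p (rfl | rfl) q (rfl | rfl)
    · rfl
    · exact huv
    · exact huv.symm
    · rfl)
  have hAc : ∀ p ∈ A, ∀ q ∈ A, p * q = q * p := fun p hp q hq =>
    congrArg Subtype.val (mul_comm' (⟨p, hp⟩ : A) ⟨q, hq⟩)
  have hmu : u ∈ A := Subgroup.subset_closure (Or.inl rfl)
  have hmv : w₀ ∈ A := Subgroup.subset_closure (Or.inr rfl)
  have hconj : ∀ p ∈ A, x * p * x⁻¹ ∈ A := by
    have hle : A ≤ A.comap (MulAut.conj x).toMonoidHom := (Subgroup.closure_le _).2 (by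
      rintro p (rfl | rfl)
      · show x * u * x⁻¹ ∈ A
        rw [show x * u * x⁻¹ = w₀ by rw [hu, hw₀]; group]
        exact hmv
      · show x * w₀ * x⁻¹ ∈ A
        rw [show x * w₀ * x⁻¹ = (w₀ * u)⁻¹ by
          have e : x * y * x = y⁻¹ * x⁻¹ * y⁻¹ := by
            have e' : x * y * x = (x * y) ^ 3 * (y⁻¹ * x⁻¹ * y⁻¹) := by rw [pow_succ, pow_two]; group
            rw [e', hxy, one_mul]
          calc x * w₀ * x⁻¹ = x * y * (x⁻¹ * x⁻¹) := by rw [hw₀]; group
            _ = y⁻¹ * (x⁻¹)⁻¹⁻¹ * y⁻¹ := by rw [hxx, e, inv_inv]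
            _ = (y * x * y)⁻¹ := by group
            _ = (y * (x⁻¹ * x⁻¹) * y)⁻¹ := by rw [hxx]
            _ = (w₀ * u)⁻¹ := by rw [hu, hw₀]; group]
        exact A.inv_mem (A.mul_mem hmv hmu))
    exact fun p hp => hle hp
  by_cases h3 : ∃ w ∈ A, w ^ 3 = 1 ∧ w ≠ 1
  · left
    obtain ⟨w, hwA, hw3, hw1⟩ := h3
    obtain ⟨q, hqA, hq1, hqx⟩ : ∃ q ∈ A, q ≠ 1 ∧ x * q * x⁻¹ = q := by
      set w' := x * w * x⁻¹ with hw'
      set w'' := x * w' * x⁻¹ with hw''
      have hA' : w' ∈ A := hconj w hwA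
      have hA'' : w'' ∈ A := hconj w' hA'
      have h3' : w' ^ 3 = 1 := by rw [hw', conj_pow, hw3]; group
      have hback : x * w'' * x⁻¹ = w := by
        calc x * w'' * x⁻¹ = x ^ 3 * w * (x ^ 3)⁻¹ := by rw [hw'', hw', pow_succ, pow_two]; group
          _ = w := by rw [hx]; group
      by_cases hN : w * w' * w'' = 1
      · by_cases hd : w' * w⁻¹ = 1
        · exact ⟨w, hwA, hw1, mul_inv_eq_one.1 hd⟩
        · refine ⟨w' * w⁻¹, A.mul_mem hA' (A.inv_mem hwA), hd, ?_⟩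
          have e2 : w'' = w'⁻¹ * w⁻¹ := by
            rw [eq_inv_of_mul_eq_one_right hN, mul_inv_rev]
          have h2' : w'⁻¹ * w'⁻¹ = w' := by
            calc w'⁻¹ * w'⁻¹ = w'⁻¹ * w'⁻¹ * w' ^ 3 := by rw [h3', mul_one]
              _ = w' := by rw [pow_succ, pow_two]; group
          calc x * (w' * w⁻¹) * x⁻¹ = w'' * w'⁻¹ := by rw [hw'', hw']; group
            _ = w'⁻¹ * (w'⁻¹ * w⁻¹) := by
                rw [e2, hAc _ (A.mul_mem (A.inv_mem hA') (A.inv_mem hwA)) _ (A.inv_mem hA')]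
            _ = w' * w⁻¹ := by rw [← mul_assoc, h2']
      · refine ⟨w * w' * w'', A.mul_mem (A.mul_mem hwA hA') hA'', hN, ?_⟩
        calc x * (w * w' * w'') * x⁻¹ = w' * w'' * (x * w'' * x⁻¹) := by rw [hw'', hw']; group
          _ = w * (w' * w'') := by rw [hback, hAc _ (A.mul_mem hA' hA'') _ hwA]
          _ = w * w' * w'' := (mul_assoc _ _ _).symm
    have hqT : q ∈ T := hinT q (mul_inv_eq_iff_eq_mul.1 hqx).symm
    have huN : u ∈ Subgroup.normalizer (T : Set G) :=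
      K.loc q hqT hq1 (Subgroup.mem_centralizer_singleton_iff.2 (hAc u hmu q hqA))
    have hyT : y ∈ T := K.cube_mem y (by
      rw [show y = x * u by rw [hu]; group]
      exact Subgroup.mul_mem _ (Subgroup.le_normalizer (hxdef ▸ K.mem v)) huN) hy
    exact K.comm (hxdef ▸ K.mem v) hyT
  · right
    let f : A → A := fun p => ⟨x⁻¹ * (p : G) * x * (p : G)⁻¹, A.mul_mem (by
      have := hconj _ (hconj _ p.2)
      rwa [show x * (x * (p : G) * x⁻¹) * x⁻¹ = x⁻¹ * (p : G) * x by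
        calc x * (x * (p : G) * x⁻¹) * x⁻¹ = x ^ 3 * (x⁻¹ * (p : G) * x) * (x ^ 3)⁻¹ := by
              rw [pow_succ, pow_two]; group
          _ = _ := by rw [hx]; group] at this) (A.inv_mem p.2)⟩
    have hf : Function.Injective f := by
      intro p q e
      have e' : x⁻¹ * (p : G) * x * (p : G)⁻¹ = x⁻¹ * (q : G) * x * (q : G)⁻¹ := congrArg Subtype.val e
      by_contra hne
      refine h3 ⟨(q : G)⁻¹ * p, A.mul_mem (A.inv_mem q.2) p.2, ?_,
        fun e1 => hne (Subtype.ext (inv_mul_eq_one.1 e1).symm)⟩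
      refine K.cube (hinT _ ?_)
      calc (q : G)⁻¹ * p * x = (q : G)⁻¹ * x * (x⁻¹ * (p : G) * x * (p : G)⁻¹) * p := by group
        _ = (q : G)⁻¹ * x * (x⁻¹ * (q : G) * x * (q : G)⁻¹) * p := by rw [e']
        _ = x * ((q : G)⁻¹ * p) := by group
    obtain ⟨p, hp⟩ := (Finite.injective_iff_surjective.1 hf) ⟨u, hmu⟩
    refine isConj_iff.2 ⟨(p : G), ?_⟩
    have e' : x⁻¹ * (p : G) * x * (p : G)⁻¹ = x⁻¹ * y := congrArg Subtype.val hp
    calc (p : G) * x * (p : G)⁻¹ = x * (x⁻¹ * (p : G) * x * (p : G)⁻¹) := by group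
      _ = y := by rw [e', mul_inv_cancel_left]

/-- Products of a diagonal and an axial element landing in `T` are formed in `T`. -/
theorem local_pairs [Finite G] (K : KHyp T) {va : V9} (hva : OnAxis va) {c y z : G} (hc : c ∈ T)
    (hc1 : c ≠ 1) (hy : IsConj (K.el (1, 1)) y) (hz : IsConj (K.el va) z) (hyz : y * z = c) :
    y ∈ T ∧ z ∈ T := by
  obtain ⟨k, hk⟩ := isConj_iff.1 hy
  set g := k⁻¹ with hg
  have hgy : g * y * g⁻¹ = K.el (1, 1) := by rw [← hk, hg]; group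
  have hz3 : (g * z * g⁻¹) ^ 3 = 1 := by
    obtain ⟨l, hl⟩ := isConj_iff.1 hz
    rw [← hl, conj_pow, conj_pow, K.el_cube]; group
  have hprod : K.el (1, 1) * (g * z * g⁻¹) = g * c * g⁻¹ := by rw [← hgy, ← hyz]; group
  rcases K.triple (v := (1, 1)) rfl hz3 (by rw [hprod, conj_pow, K.cube hc]; group) with e | e
  · have hzT : g * z * g⁻¹ ∈ T := by
      rw [← K.cent_diag (v := (1, 1)) rfl]
      exact Subgroup.mem_centralizer_singleton_iff.2 e.symm
    have hcT : g * c * g⁻¹ ∈ T := hprod ▸ T.mul_mem (K.mem _) hzT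
    have hgN := K.ti hc hc1 hcT
    exact ⟨(Subgroup.mem_normalizer_iff.1 hgN y).2 (hgy ▸ K.mem _),
      (Subgroup.mem_normalizer_iff.1 hgN z).2 hzT⟩
  · exfalso
    have hzg : IsConj (g * z * g⁻¹) z := isConj_iff.2 ⟨g⁻¹, by group⟩
    obtain ⟨j, hj⟩ := (K.isConj_iff_orbit (v := (1, 1)) (w := va) (by decide)).1
      ((e.trans hzg).trans hz.symm)
    have := (orbit_d va).1 ⟨j, hj⟩
    rw [hva.2] at this
    exact Bool.noConfusion this

end KHyp

end CfsgLib.Char.NineKlein
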